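import Groth.Agent.AbSch.K493.QuotMdl
import Groth.Agent.Ega3B.LimInvK1
import Groth.Agent.S4815
import Groth.Agent.S16219
import Groth.Agent.S0083

/-!
# Descent of a principal reduction from an algebraic extension to a finite extension
-/

set_option autoImplicit false
universe u

open CategoryTheory MonoidalCategory CartesianMonoidalCategory MonObj GrpObj AlgebraicGeometry Limits Opposite
open Groth.Agent Groth.Agent.Grpsch Groth.Agent.Fdesc.LocGen K258.KeyDat

namespace K493.HasFin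

section field

variable {K Ω : Type u} [Field K] [Field Ω] [Algebra K Ω]

/-- The inclusion of a subalgebra in an intermediate field. -/
def incl {S : Subalgebra K Ω} {K₁ : IntermediateField K Ω} (h : ∀ x ∈ S, x ∈ K₁) : S →+* K₁ where
  toFun x := ⟨x.1, h x.1 x.2⟩
  map_one' := rfl
  map_mul' _ _ := rfl
  map_zero' := rfl
  map_add' _ _ := rfl

variable {S : Subalgebra K Ω} {K₁ : IntermediateField K Ω} (h : ∀ x ∈ S, x ∈ K₁)

theorem sp_incl : sp K₁ Ω ≫ Spec.map (CommRingCat.ofHom (incl h)) =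
    Spec.map (CommRingCat.ofHom S.val.toRingHom) := by
  rw [sp, ← Spec.map_comp]
  rfl

theorem incl_sp : Spec.map (CommRingCat.ofHom (incl h)) ≫ Spec.map (CommRingCat.ofHom (algebraMap K S)) =
    sp K K₁ := by
  rw [sp, ← Spec.map_comp]
  rfl

end field

section closed

open Groth.Agent.Ega3B.LimInv Groth.Agent.Etcore.FGLim

variable {K Ω : Type u} [Field K] [Field Ω] [Algebra K Ω]

/-- `Spec Ω ⟶ Spec S`. -/
noncomputable abbrev sv (S : Subalgebra K Ω) : Spec (CommRingCat.of Ω) ⟶ Spec (CommRingCat.of S) :=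
  Spec.map (CommRingCat.ofHom S.val.toRingHom)

/-- `Spec S ⟶ Spec K`. -/
noncomputable abbrev ss (S : Subalgebra K Ω) : Spec (CommRingCat.of S) ⟶ Spec (CommRingCat.of K) :=
  Spec.map (CommRingCat.ofHom (algebraMap K S))

/-- A closed subscheme of `X_Ω` comes from a finitely generated subalgebra. -/
theorem exists_stage {X : Scheme.{u}} (f : X ⟶ Spec (CommRingCat.of K)) [LocallyOfFiniteType f] [QuasiCompact f]
    [QuasiSeparated f] {Y : Scheme.{u}} {g : Y ⟶ X} {q : Y ⟶ Spec (CommRingCat.of Ω)}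
    (hY : IsPullback g q f (sp K Ω)) {Z : Scheme.{u}} (i : Z ⟶ Y) [IsClosedImmersion i] :
    ∃ (S : Subalgebra K Ω) (_ : S.FG) (w : g ≫ f = (q ≫ sv S) ≫ ss S) (Z₁ : Scheme.{u})
      (ι₁ : Z₁ ⟶ pullback f (ss S)) (u : Z ⟶ Z₁), IsPullback u i ι₁ (pullback.lift g (q ≫ sv S) w) := by
  have hLft : LocallyOfFiniteType q := MorphismProperty.of_isPullback (P := @LocallyOfFiniteType) hY ‹_›
  have hY1 : IsLocallyNoetherian Y := LocallyOfFiniteType.isLocallyNoetherian q
  have ht : ∀ j, (fgC K Ω).π.app j ≫ (fgS K Ω).app j = sp K Ω := fun j =>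
    (Spec.map_comp (CommRingCat.ofHom (algebraMap K j.unop.1)) (CommRingCat.ofHom j.unop.1.val.toRingHom)).symm
  let D := bcD (fgD K Ω) (fgS K Ω) f
  let c : Cone D := bcC (fgC K Ω) ht hY
  have hc : IsLimit c := isLimitBcC (fgC K Ω) ht hY (isLimitFgC K Ω)
  have h1 : ∀ (j k : (FGSub K Ω)ᵒᵖ) (a : j ⟶ k), IsAffineHom (D.map a) := fun j k a =>
    isAffineHom_bcD_map a
  have h2 : ∀ j, CompactSpace (D.obj j) := fun j => compactSpace_bcD_obj j
  have h3 : ∀ j, QuasiSeparatedSpace (D.obj j) := fun j => quasiSeparatedSpace_bcD_obj j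
  have j₀ : (FGSub K Ω)ᵒᵖ := Nonempty.some inferInstance
  let i' : Z ⟶ c.pt := i
  have hi' : IsClosedImmersion i' := inferInstanceAs (IsClosedImmersion i)
  have hc' : IsLocallyNoetherian c.pt := hY1
  have hfp : LocallyOfFinitePresentation i' := inferInstance
  have h2' := h2 j₀
  have h3' := h3 j₀
  obtain ⟨j, -, Zj, ιj, u, m1, m2, m3, hpb⟩ := S4815.result D c hc j₀ i'
  have w : g ≫ f = (q ≫ sv j.unop.1) ≫ ss j.unop.1 := by
    rw [hY.w, Category.assoc]
    exact congrArg (fun z => q ≫ z) (ht j).symm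
  exact ⟨j.unop.1, j.unop.2, w, Zj, ιj, u, hpb⟩

/-- A closed subscheme of `X_Ω` comes from `X_{K₁}` for all large `K₁`. -/
theorem exists_closed {X : Scheme.{u}} (f : X ⟶ Spec (CommRingCat.of K)) [LocallyOfFiniteType f] [QuasiCompact f]
    [QuasiSeparated f] {Y : Scheme.{u}} {g : Y ⟶ X} {q : Y ⟶ Spec (CommRingCat.of Ω)}
    (hY : IsPullback g q f (sp K Ω)) {Z : Scheme.{u}} (i : Z ⟶ Y) [IsClosedImmersion i] :
    ∃ s : Finset Ω, ∀ K₁ : IntermediateField K Ω, (s : Set Ω) ⊆ K₁ →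
      ∀ {X₁ : Scheme.{u}} {g₁ : X₁ ⟶ X} {q₁ : X₁ ⟶ Spec (CommRingCat.of K₁)}
        (_ : IsPullback g₁ q₁ f (sp K K₁)) (ρ : Y ⟶ X₁) (_ : ρ ≫ g₁ = g) (_ : ρ ≫ q₁ = q ≫ sp K₁ Ω),
      ∃ (Z₁ : Scheme.{u}) (i₁ : Z₁ ⟶ X₁) (u : Z ⟶ Z₁), IsClosedImmersion i₁ ∧ IsPullback u i i₁ ρ := by
  obtain ⟨S, hS, w, Zj, ιj, u, hpb⟩ := exists_stage f hY i
  obtain ⟨s, hs⟩ := hS
  refine ⟨s, fun K₁ hK₁ X₁ g₁ q₁ hX₁ ρ hρ1 hρ2 => ?_⟩
  have hle : ∀ x ∈ S, x ∈ K₁ := by
    intro x hx
    have : S ≤ K₁.toSubalgebra := by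
      rw [← hs, Algebra.adjoin_le_iff]
      exact hK₁
    exact this hx
  let v : X₁ ⟶ pullback f (ss S) := pullback.lift g₁ (q₁ ≫ Spec.map (CommRingCat.ofHom (incl hle))) (by
    rw [hX₁.w, Category.assoc, ← incl_sp hle])
  have hv1 : v ≫ pullback.fst f (ss S) = g₁ := pullback.lift_fst _ _ _
  have hv2 : v ≫ pullback.snd f (ss S) = q₁ ≫ Spec.map (CommRingCat.ofHom (incl hle)) := pullback.lift_snd _ _ _
  have hv : ρ ≫ v = pullback.lift g (q ≫ sv S) w := by
    apply pullback.hom_ext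
    · rw [Category.assoc, hv1, pullback.lift_fst, hρ1]
    · rw [Category.assoc, hv2, pullback.lift_snd, ← Category.assoc, hρ2, Category.assoc, sp_incl]
  let u' : Z ⟶ pullback ιj v := pullback.lift u (i ≫ ρ) (by rw [Category.assoc, hv]; exact hpb.w)
  have hsq : IsPullback u' i (pullback.snd ιj v) ρ := by
    refine IsPullback.of_right (h₁₂ := pullback.fst ιj v) (h₂₂ := v) (v₁₃ := ιj) ?_ (pullback.lift_snd _ _ _)
      (IsPullback.of_hasPullback ιj v)
    rw [hv, show u' ≫ pullback.fst ιj v = u from pullback.lift_fst _ _ _]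
    exact hpb
  refine ⟨pullback ιj v, pullback.snd ιj v, u', ?_, hsq⟩
  have hsp : IsPullback ρ q q₁ (sp K₁ Ω) := by
    refine IsPullback.of_right (h₁₂ := g₁) (h₂₂ := sp K K₁) (v₁₃ := f) ?_ hρ2 hX₁
    rw [hρ1, sp_comp K₁ Ω]
    exact hY
  have a1 : Flat ρ := MorphismProperty.of_isPullback (P := @Flat) hsp.flip inferInstance
  have a2 : Surjective ρ := MorphismProperty.of_isPullback (P := @Surjective) hsp.flip inferInstance
  have a3 : QuasiCompact ρ := MorphismProperty.of_isPullback (P := @QuasiCompact) hsp.flip inferInstance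
  have h6 := Groth.Agent.S0083.result.{u}
  exact MorphismProperty.of_isPullback_of_descendsAlong (P := @IsClosedImmersion)
    (Q := @Surjective ⊓ @Flat ⊓ @QuasiCompact) hsq.flip ⟨⟨a2, a1⟩, a3⟩ ‹_›

/-- A point with values in `Ω` comes from all large `K₁`. -/
theorem exists_section {X : Scheme.{u}} (f : X ⟶ Spec (CommRingCat.of K)) [LocallyOfFiniteType f]
    (x : Spec (CommRingCat.of Ω) ⟶ X) (hx : x ≫ f = sp K Ω) :
    ∃ s : Finset Ω, ∀ K₁ : IntermediateField K Ω, (s : Set Ω) ⊆ K₁ →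
      ∃ x₁ : Spec (CommRingCat.of K₁) ⟶ X, x₁ ≫ f = sp K K₁ ∧ sp K₁ Ω ≫ x₁ = x := by
  obtain ⟨⟨S, hS⟩, x₀, h1, h2⟩ := Groth.Agent.S16219.exists_fg K Ω X f x hx
  obtain ⟨s, hs⟩ := hS
  refine ⟨s, fun K₁ hK₁ => ?_⟩
  have hle : ∀ x ∈ S, x ∈ K₁ := by
    intro x hx
    have : S ≤ K₁.toSubalgebra := by
      rw [← hs, Algebra.adjoin_le_iff]
      exact hK₁
    exact this hx
  refine ⟨Spec.map (CommRingCat.ofHom (incl hle)) ≫ x₀, ?_, ?_⟩
  · rw [Category.assoc, h1]
    exact incl_sp hle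
  · rw [← Category.assoc, sp_incl]
    exact h2

end closed

section goal

variable {K : Type u} [Field K] {A : Over (Spec (CommRingCat.of K))} [GrpObj A] {g : ℕ} {L : A.left.Modules}

theorem Goal.of_finite (hL : PicF.IsInvertible L) {K₁ : Type u} [Field K₁] [Algebra K K₁] [Module.Finite K K₁]
    (h : Goal K₁ (Red.bc (sp K K₁) A) g ((Scheme.Modules.pullback (pullback.fst A.hom (sp K K₁))).obj L)) :
    Goal K A g L := by
  obtain ⟨K', f1, f2, f3, hp⟩ := h
  let i1 : Algebra K K' := ((algebraMap K₁ K').comp (algebraMap K K₁)).toAlgebra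
  have i2 : IsScalarTower K K₁ K' := IsScalarTower.of_algebraMap_eq' rfl
  have i3 : Module.Finite K K' := Module.Finite.trans K₁ K'
  exact ⟨K', f1, i1, i3, (hasPrinc_tower A hL (sp_comp K₁ K')).mpr hp⟩

end goal

section main

variable {K Ω : Type u} [Field K] [Field Ω] [Algebra K Ω] {A : Over (Spec (CommRingCat.of K))} [GrpObj A]
  {A' B' : Over (Spec (CommRingCat.of Ω))} [GrpObj A'] [GrpObj B'] (GA : GM (sp K Ω) A' A) {g : ℕ}

/-- The kernel has a model over all large intermediate fields. -/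
theorem exists_kerMdl (hA : AgPol.IsAbSch A g) (lam' : A' ⟶ B') [IsClosedImmersion η[B'].left] :
    ∃ s : Finset Ω, ∀ K₁ : IntermediateField K Ω, (s : Set Ω) ⊆ K₁ →
      ∃ (H : Over (Spec (CommRingCat.of K₁))) (h : H ⟶ Red.bc (sp K K₁) A), IsClosedImmersion h.left ∧
        KerMdl (GA.rebase (sp_comp K₁ Ω)) h lam' := by
  have hp := hA.proper
  let N : Over (Spec (CommRingCat.of Ω)) := pullback lam' η[B']
  let jN : N ⟶ A' := pullback.fst lam' η[B']
  have hN : IsPullback jN (pullback.snd lam' η[B']) lam' η[B'] := IsPullback.of_hasPullback _ _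
  have hNl := IsPullback.map (Over.forget _) hN
  have hι : IsClosedImmersion jN.left := MorphismProperty.of_isPullback (P := @IsClosedImmersion) hNl.flip ‹_›
  obtain ⟨s, hs⟩ := exists_closed A.hom GA.isPullback jN.left
  refine ⟨s, fun K₁ hK₁ => ?_⟩
  let G₁ := GA.rebase (sp_comp K₁ Ω)
  obtain ⟨Z₁, i₁, u, hi, hsq⟩ := hs K₁ hK₁ (IsPullback.of_hasPullback A.hom (sp K K₁)) G₁.pj
    (GA.rebase_fst (sp_comp K₁ Ω)) (GA.rebase_snd (sp_comp K₁ Ω))
  let H : Over (Spec (CommRingCat.of K₁)) := Over.mk (i₁ ≫ (Red.bc (sp K K₁) A).hom)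
  let h : H ⟶ Red.bc (sp K K₁) A := Over.homMk i₁ rfl
  refine ⟨H, h, hi, fun T x => ⟨fun hx => ?_, fun ⟨y, hy⟩ => ?_⟩⟩
  · obtain ⟨y, hy⟩ : ∃ y : T ⟶ N, y ≫ jN = x :=
      ⟨hN.lift x (toUnit T) (by rw [hx, Hom.one_def]), hN.lift_fst _ _ _⟩
    refine ⟨y.left ≫ u, ?_⟩
    change (y.left ≫ u) ≫ i₁ = _
    rw [Category.assoc, hsq.w, ← Category.assoc, ← Over.comp_left, hy]
  · have hy' : y ≫ i₁ = x.left ≫ G₁.pj := hy
    let z : T.left ⟶ N.left := hsq.lift y x.left hy'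
    have hz : z ≫ jN.left = x.left := hsq.lift_snd _ _ _
    let z' : T ⟶ N := Over.homMk z (by rw [← Over.w jN, ← Category.assoc, hz, Over.w])
    have hz' : z' ≫ jN = x := by
      ext1
      exact hz
    rw [← hz', Category.assoc, hN.w, ← Category.assoc, Hom.one_def]
    congr 1
    exact toUnit_unique _ _

/-- **Descent of an explicit principal reduction to a finite extension.** -/
theorem PDat.goal [Algebra.IsAlgebraic K Ω] [IsCommMonObj A] (hA : AgPol.IsAbSch A g)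
    {L : A.left.Modules} (hL : PicF.IsInvertible L) (hamp : RelAmple.IsRelAmple A.hom L)
    {L' : A'.left.Modules} (iL : Nonempty (L' ≅ (Scheme.Modules.pullback GA.pj).obj L))
    {lam' : A' ⟶ B'} {M' : B'.left.Modules} {a' : 𝟙_ (Over (Spec (CommRingCat.of Ω))) ⟶ A'}
    {n : ℕ} (hd : PDat g L' lam' M' a' n) : Goal K A g L := by
  have hp := hA.proper
  have hBp := hd.dat.ab.proper
  have hη : IsClosedImmersion η[B'].left := (Groth.Agent.S0346.result _ B').1.mp inferInstance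
  obtain ⟨s, hs⟩ := exists_kerMdl GA hA lam'
  have hx : (a'.left ≫ GA.pj) ≫ A.hom = sp K Ω := by
    rw [Category.assoc, GA.isPullback.w, ← Category.assoc]
    have h1 : a'.left ≫ A'.hom = 𝟙 _ := Over.w a'
    rw [h1]
    exact Category.id_comp _
  obtain ⟨t, ht⟩ := exists_section A.hom (a'.left ≫ GA.pj) hx
  classical
  let K₁ : IntermediateField K Ω := IntermediateField.adjoin K ((s ∪ t : Finset Ω) : Set Ω)
  have hfin : Module.Finite K K₁ := finite_of_fg K₁ ⟨s ∪ t, rfl⟩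
  have hsub : ((s ∪ t : Finset Ω) : Set Ω) ⊆ K₁ := IntermediateField.subset_adjoin K _
  obtain ⟨H, h, hh, hk⟩ := hs K₁ (fun x hx => hsub (by simp only [Finset.coe_union]; exact Or.inl hx))
  obtain ⟨x₁, hx1, hx2⟩ := ht K₁ (fun x hx => hsub (by simp only [Finset.coe_union]; exact Or.inr hx))
  refine Goal.of_finite hL (K₁ := K₁) ?_
  have i1 : Algebra.IsAlgebraic K₁ Ω := Algebra.IsAlgebraic.tower_top (K := K) K₁
  refine goal_of_kerMdl (GA := GA.rebase (sp_comp K₁ Ω)) (h := h) (lam' := lam') (K258.AbBC.isAbSch (sp K K₁) A hA)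
    (isInvertible_pullback (pullback.fst A.hom (sp K K₁)) hL) (K258.AbBC.amp (sp K K₁) hamp) hk (L' := L') ?_
    (a := bcPt (sp K K₁) x₁ hx1) (pt_rebase GA (sp_comp K₁ Ω) x₁ hx1 a' hx2.symm) hd
  obtain ⟨i⟩ := iL
  exact ⟨i ≪≫ (Scheme.Modules.pullbackCongr (GA.rebase_fst (sp_comp K₁ Ω)).symm).app L ≪≫
      ((Scheme.Modules.pullbackComp _ _).app L).symm⟩

end main

/-- **Descent of a principal reduction from an algebraic extension to a finite extension.** -/
theorem hasPrinc_finite (K : Type u) [Field K] (A : Over (Spec (CommRingCat.of K))) [GrpObj A]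
    [IsCommMonObj A] {g : ℕ} (hA : AgPol.IsAbSch A g) (L : A.left.Modules) (hL : PicF.IsInvertible L)
    (hamp : RelAmple.IsRelAmple A.hom L) (Ω : Type u) [Field Ω] [Algebra K Ω] [Algebra.IsAlgebraic K Ω]
    (h : HasPrinc (Red.bc (Spec.map (CommRingCat.ofHom (algebraMap K Ω))) A) g
      ((Scheme.Modules.pullback (pullback.fst A.hom _)).obj L)) :
    ∃ (K' : Type u) (_ : Field K') (_ : Algebra K K'), Module.Finite K K' ∧
      HasPrinc (Red.bc (Spec.map (CommRingCat.ofHom (algebraMap K K'))) A) g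
        ((Scheme.Modules.pullback (pullback.fst A.hom _)).obj L) := by
  obtain ⟨B, _, _, lam, M, a, n, h1, h2, h3, h4, h5, h6, h7, h8⟩ := h
  let GA : GM (sp K Ω) (Red.bc (sp K Ω) A) A := ⟨Iso.refl _, inferInstanceAs (IsMonHom (𝟙 _))⟩
  have hpj : GA.pj = pullback.fst A.hom (sp K Ω) := Category.id_comp _
  have hd : PDat g ((Scheme.Modules.pullback (pullback.fst A.hom (sp K Ω))).obj L) lam M a n :=
    ⟨h1, h2, h3, h4, h5, h6, h7, h8⟩
  exact PDat.goal GA hA hL hamp ⟨(Scheme.Modules.pullbackCongr hpj.symm).app L⟩ hd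

end K493.HasFin
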