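import Groth.Agent.AbVar.K515.PushRank
import Groth.Agent.S0034
import Groth.Agent.FormalA.PullbackQC
import Groth.Agent.Ega2.QCohLocal

/-!
# The direct image of a module on the spectrum of a field: invertibility and extension of the field
-/

set_option autoImplicit false
universe u

open CategoryTheory CategoryTheory.Limits AlgebraicGeometry Opposite TopologicalSpace
open Groth.Agent Groth.Agent.Sga67.Sec Groth.Agent.Sga67.LocBasis

namespace K493.PushInv

variable {k : Type u} [Field k] {X : Scheme.{u}}

/-- If `f_* M` is finite locally free of rank `r` then `dim H^0(X, M) = r`. -/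
theorem finrank_of_push (f : X ⟶ Spec (CommRingCat.of k)) (M : X.Modules) (r : ℕ)
    (h : FlatMod.IsFinLocFreeOfRank r ((Scheme.Modules.pushforward f).obj M)) :
    @Module.Finite k (Coh.HH X M 0) _ _ (@Coh.moduleOver k _ X ⟨f⟩ M 0) ∧
      @Module.finrank k (Coh.HH X M 0) _ _ (@Coh.moduleOver k _ X ⟨f⟩ M 0) = r := by
  obtain ⟨U, hx, hU⟩ := h (IsLocalRing.closedPoint k)
  obtain rfl : U = ⊤ := by
    rw [eq_top_iff]
    intro y _
    obtain rfl : y = IsLocalRing.closedPoint k := Subsingleton.elim _ _
    exact hx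
  obtain ⟨b, hb⟩ := nonempty_restrict_iso_iff.mp hU
  let β : Module.Basis (Fin r) Γ(Spec (CommRingCat.of k), ⊤) Γ((Scheme.Modules.pushforward f).obj M, ⊤) :=
    hb.basis le_rfl
  let _ : X.Over (Spec (CommRingCat.of k)) := ⟨f⟩
  let e : Coh.HH X M 0 ≃+ Γ((Scheme.Modules.pushforward f).obj M, ⊤) := CurvesB.HZero.equivAdd M
  have he : ∀ (t : k) (x : Coh.HH X M 0), e (t • x) = K515.PushRank.rho k t • e x := by
    intro t x
    exact CurvesB.HZero.equivAdd_smul_over M t x
  let _ : Module k Γ((Scheme.Modules.pushforward f).obj M, ⊤) :=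
    Module.compHom _ (K515.PushRank.rho k).toRingHom
  let e' : Coh.HH X M 0 ≃ₗ[k] Γ((Scheme.Modules.pushforward f).obj M, ⊤) :=
    { e with map_smul' := he }
  let β' : Module.Basis (Fin r) k Γ((Scheme.Modules.pushforward f).obj M, ⊤) :=
    β.mapCoeffs (K515.PushRank.rho k).symm (fun c x => by
      change K515.PushRank.rho k ((K515.PushRank.rho k).symm c) • x = c • x
      rw [RingEquiv.apply_symm_apply])
  let β'' := β'.map e'.symm
  refine ⟨Module.Finite.of_basis β'', ?_⟩
  exact (Module.finrank_eq_card_basis β'').trans (Fintype.card_fin r)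

/-- `f_* M` is invertible over the spectrum of a field exactly if `dim H^0(X, M) = 1`. -/
theorem isInvertible_push_iff (f : X ⟶ Spec (CommRingCat.of k)) [QuasiCompact f] [QuasiSeparated f] (M : X.Modules)
    (hM : Coh.IsQCoh M) :
    PicF.IsInvertible ((Coh.push f).obj M) ↔
      @Module.finrank k (Coh.HH X M 0) _ _ (@Coh.moduleOver k _ X ⟨f⟩ M 0) = 1 := by
  rw [← Ega2.QCohLocal.isFinLocFreeOfRank_one_iff]
  constructor
  · exact fun h => (finrank_of_push f M 1 h).2
  · intro h
    have h1 : @Module.Finite k (Coh.HH X M 0) _ _ (@Coh.moduleOver k _ X ⟨f⟩ M 0) := by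
      let _ : X.Over (Spec (CommRingCat.of k)) := ⟨f⟩
      have h' : Module.finrank k (Coh.HH X M 0) = 1 := h
      exact Module.finite_of_finrank_pos (by rw [h']; norm_num)
    exact K515.PushRank.isFinLocFreeOfRank_push f M hM 1 h1 h

/-- **Invertibility of the direct image descends along extensions of fields.** -/
theorem isInvertible_push_of_ext {l : Type u} [Field l] [Algebra k l] {X' : Scheme.{u}} {p : X' ⟶ X}
    {f : X ⟶ Spec (CommRingCat.of k)} {f' : X' ⟶ Spec (CommRingCat.of l)} [QuasiCompact f] [QuasiSeparated f]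
    (H : IsPullback p f' f (Spec.map (CommRingCat.ofHom (algebraMap k l)))) (M : X.Modules) (hM : Coh.IsQCoh M)
    (h : PicF.IsInvertible ((Coh.push f').obj ((Scheme.Modules.pullback p).obj M))) :
    PicF.IsInvertible ((Coh.push f).obj M) := by
  have i1 : QuasiCompact f' := MorphismProperty.of_isPullback (P := @QuasiCompact) H ‹_›
  have i2 : QuasiSeparated f' := MorphismProperty.of_isPullback (P := @QuasiSeparated) H ‹_›
  have hM' : Coh.IsQCoh ((Scheme.Modules.pullback p).obj M) :=
    Groth.Agent.FormalA.PullbackQC.isQCoh_pullback p M hM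
  rw [isInvertible_push_iff f' _ hM'] at h
  rw [isInvertible_push_iff f _ hM]
  let _ : X.Over (Spec (CommRingCat.of k)) := ⟨f⟩
  let _ : X'.Over (Spec (CommRingCat.of l)) := ⟨f'⟩
  have c1 : CompactSpace X := QuasiCompact.compactSpace_of_compactSpace f
  have c2 : QuasiSeparatedSpace X := quasiSeparatedSpace_of_quasiSeparated f
  obtain ⟨e⟩ := S0034.result k l X X' p H M 0
  have h1 : Module.finrank l (Coh.HH X' ((Scheme.Modules.pullback p).obj M) 0) = 1 := h
  have h2 := e.finrank_eq
  rw [Module.finrank_baseChange, h1] at h2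
  exact h2

end K493.PushInv
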