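import Groth.Agent.AbSch.K493.GrpMdl
import Groth.Agent.AbSch.K493.PushInv
import Groth.Agent.AbSch.K451.Prod
import Groth.Agent.AbVar.K521.SeesawRed
import Groth.Agent.CurvSt.K333.StableOpen

/-!
# Descent of principal reductions along extensions of fields
-/

set_option autoImplicit false
universe u

open CategoryTheory MonoidalCategory CartesianMonoidalCategory MonObj GrpObj AlgebraicGeometry Limits Opposite
open Groth.Agent Groth.Agent.Grpsch Groth.Agent.Fdesc.LocGen K258.KeyDat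

namespace K493.HasFin

variable {K Ω : Type u} [Field K] [Field Ω] [Algebra K Ω]

/-- `Spec Ω ⟶ Spec K`. -/
noncomputable abbrev sp (K Ω : Type u) [Field K] [Field Ω] [Algebra K Ω] :
    Spec (CommRingCat.of Ω) ⟶ Spec (CommRingCat.of K) :=
  Spec.map (CommRingCat.ofHom (algebraMap K Ω))

theorem pull_inj {X : Over (Spec (CommRingCat.of K))} [GrpObj X] {g : ℕ} (hX : AgPol.IsAbSch X g) {X' : Scheme.{u}}
    {p : X' ⟶ X.left} {f' : X' ⟶ Spec (CommRingCat.of Ω)} (H : IsPullback p f' X.hom (sp K Ω)) :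
    Function.Injective (PicGrp.pull p) := by
  have := hX.proper
  have := K451.Prod.geometricallyIntegral_of_isAbSch hX
  rw [injective_iff_map_eq_one]
  intro c hc
  exact K521.SeesawRed.eq_one_of_field_ext K X.left X.hom Ω X' p f' H c hc

variable {A B : Over (Spec (CommRingCat.of K))} [GrpObj A] [GrpObj B] {A' B' : Over (Spec (CommRingCat.of Ω))}
  [GrpObj A'] [GrpObj B'] (GA : GM (sp K Ω) A' A) (GB : GM (sp K Ω) B' B) {g : ℕ}

include GB in
theorem Dat.descend (hB : AgPol.IsAbSch B g) {M : B.left.Modules} (hM : PicF.IsInvertible M)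
    {M' : B'.left.Modules} (iM : Nonempty (M' ≅ (Scheme.Modules.pullback GB.pj).obj M)) (h : Dat B' g M') :
    Dat B g M := by
  have hc : PicGrp.mk M' h.inv = PicGrp.pull GB.pj (PicGrp.mk M hM) := by
    rw [PicGrp.pull_mk]
    exact PicGrp.mk_congr iM.some
  have hpr := hB.proper
  refine ⟨hB, hM, ?_, ?_, ?_, ?_⟩
  · exact (PicGrp.mk_eq_one_iff (isInvertible_pullback _ hM)).mp (PicGrp.pic_spec_local K _)
  · rw [← PicGrp.mk_eq_iff (isInvertible_pullback _ hM) hM, ← PicGrp.pull_mk _ hM]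
    apply pull_inj hB GB.isPullback
    rw [← PicGrp.pull_comp, ← GB.zpow_pj, PicGrp.pull_comp, ← hc, PicGrp.pull_mk, PicGrp.mk_eq_iff]
    exact h.sym
  · have h1 : RelAmple.IsRelAmple B'.hom ((Scheme.Modules.pullback GB.pj).obj M) := by
      rw [Ega2.RelAmp.isRelAmple_iff_isAmple]
      exact Groth.Agent.S2329.isAmple_of_iso iM.some (Ega2.RelAmp.isRelAmple_iff_isAmple.mp h.amp)
    exact (K333.StableOpen.isRelAmple_iff_bc GB.isPullback hM).mp h1
  · refine K493.PushInv.isInvertible_push_of_ext GB.isPullback M (Ega2.QCohLocal.isQCoh_of_isInvertible hM) ?_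
    exact isInvertible_of_iso ((Coh.push B'.hom).mapIso iM.some) h.prin

/-- **Descent of principal reductions.** -/
theorem PDat.descend (hA : AgPol.IsAbSch A g) (hB : AgPol.IsAbSch B g) {lam : A ⟶ B} [IsMonHom lam]
    [IsFinite lam.left] [Flat lam.left] [Surjective lam.left] {lam' : A' ⟶ B'}
    (hlam : lam'.left ≫ GB.pj = GA.pj ≫ lam.left) {L : A.left.Modules} (hL : PicF.IsInvertible L)
    {L' : A'.left.Modules} (iL : Nonempty (L' ≅ (Scheme.Modules.pullback GA.pj).obj L))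
    {M : B.left.Modules} (hM : PicF.IsInvertible M)
    {M' : B'.left.Modules} (iM : Nonempty (M' ≅ (Scheme.Modules.pullback GB.pj).obj M))
    {a : 𝟙_ (Over (Spec (CommRingCat.of K))) ⟶ A} {a' : 𝟙_ (Over (Spec (CommRingCat.of Ω))) ⟶ A'}
    (ha : a'.left ≫ GA.pj = sp K Ω ≫ a.left) {n : ℕ} (h : PDat g L' lam' M' a' n) : PDat g L lam M a n := by
  have hL' : PicF.IsInvertible L' := isInvertible_of_iso iL.some.symm (isInvertible_pullback _ hL)
  refine ⟨‹_›, ‹_›, ‹_›, ‹_›, Dat.descend GB hB hM iM h.dat, h.one_le, ?_, ?_⟩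
  · have h1 : (a ^ n) = a ≫ (𝟙 A) ^ (n : ℤ) := by
      rw [GrpObj.comp_zpow, Category.comp_id, zpow_natCast]
    have h2 : (a' ^ n) = a' ≫ (𝟙 A') ^ (n : ℤ) := by
      rw [GrpObj.comp_zpow, Category.comp_id, zpow_natCast]
    ext1
    rw [← cancel_epi (sp K Ω), h1, Over.comp_left, ← Category.assoc, ← ha, Category.assoc, ← GA.zpow_pj,
      ← Category.assoc, ← Over.comp_left, ← h2, h.tors]
    have h3 : (1 : 𝟙_ (Over (Spec (CommRingCat.of Ω))) ⟶ A') = η[A'] := by
      rw [Hom.one_def, toUnit_unique (toUnit _) (𝟙 _), Category.id_comp]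
    have h4 : (1 : 𝟙_ (Over (Spec (CommRingCat.of K))) ⟶ A) = η[A] := by
      rw [Hom.one_def, toUnit_unique (toUnit _) (𝟙 _), Category.id_comp]
    rw [h3, h4]
    exact GA.unit_pj
  · rw [eqn_iff hL hM]
    have h0 := (eqn_iff hL' h.dat.inv lam' a').mp h.eqn
    have hc : PicGrp.mk M' h.dat.inv = PicGrp.pull GB.pj (PicGrp.mk M hM) := by
      rw [PicGrp.pull_mk]
      exact PicGrp.mk_congr iM.some
    have hd : PicGrp.mk L' hL' = PicGrp.pull GA.pj (PicGrp.mk L hL) := by
      rw [PicGrp.pull_mk]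
      exact PicGrp.mk_congr iL.some
    have w1 : PicGrp.pull lam'.left (PicGrp.pull GB.pj (PicGrp.mk M hM)) =
        PicGrp.pull GA.pj (PicGrp.pull lam.left (PicGrp.mk M hM)) := by
      rw [← PicGrp.pull_comp, hlam, PicGrp.pull_comp]
    have w2 : PicGrp.pull a'.left (PicGrp.pull GA.pj (PicGrp.mk L hL)) =
        PicGrp.pull (sp K Ω) (PicGrp.pull a.left (PicGrp.mk L hL)) := by
      rw [← PicGrp.pull_comp, ha, PicGrp.pull_comp]
    have w3 : ∀ c, PicGrp.pull A'.hom (PicGrp.pull (sp K Ω) c) = PicGrp.pull GA.pj (PicGrp.pull A.hom c) := by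
      intro c
      rw [← PicGrp.pull_comp, ← PicGrp.pull_comp, GA.isPullback.w]
    have w4 : PicGrp.pull (tr a').left (PicGrp.pull GA.pj (PicGrp.mk L hL)) =
        PicGrp.pull GA.pj (PicGrp.pull (tr a).left (PicGrp.mk L hL)) := by
      rw [← PicGrp.pull_comp, GA.tr_pj a a' ha, PicGrp.pull_comp]
    rw [hc, hd, w1, w2, w3, w4, ← map_mul] at h0
    exact pull_inj hA GA.isPullback h0

end K493.HasFin
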