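import Groth.Agent.AbSch.K258.AbBC
import Groth.Agent.AbSch.K258.DatDef
import Groth.Agent.Sga3B.DsBc

/-!
# Principal reductions: transport along isomorphisms and towers of base changes
-/

set_option autoImplicit false
universe u

open CategoryTheory MonoidalCategory CartesianMonoidalCategory MonObj GrpObj AlgebraicGeometry Limits Opposite
open Groth.Agent Groth.Agent.Grpsch Groth.Agent.Fdesc.LocGen K258.KeyDat

namespace K493.HasFin

variable {S : Scheme.{u}}

theorem isInvertible_of_iso {X : Scheme.{u}} {L M : X.Modules} (e : L ≅ M) (hL : PicF.IsInvertible L) :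
    PicF.IsInvertible M := by
  intro x
  obtain ⟨U, hx, ⟨i⟩⟩ := hL x
  exact ⟨U, hx, ⟨(Scheme.Modules.restrictFunctor U.ι).mapIso e.symm ≪≫ i⟩⟩

/-- An explicit principal reduction. -/
structure PDat {A : Over S} [GrpObj A] (g : ℕ) (L : A.left.Modules) {B : Over S} [GrpObj B] (lam : A ⟶ B)
    (M : B.left.Modules) (a : 𝟙_ (Over S) ⟶ A) (n : ℕ) : Prop where
  hom : IsMonHom lam
  fin : IsFinite lam.left
  flat : Flat lam.left
  surj : Surjective lam.left
  dat : Dat B g M
  one_le : 1 ≤ n
  tors : a ^ n = 1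
  eqn : Nonempty (CohB1.tensorMod ((Scheme.Modules.pullback lam.left).obj M)
        ((Scheme.Modules.pullback A.hom).obj ((Scheme.Modules.pullback a.left).obj L)) ≅
          (Scheme.Modules.pullback (tr a).left).obj L)

theorem PDat.hasPrinc {A : Over S} [GrpObj A] {g : ℕ} {L : A.left.Modules} {B : Over S} [GrpObj B] [IsCommMonObj B]
    {lam : A ⟶ B} {M : B.left.Modules} {a : 𝟙_ (Over S) ⟶ A} {n : ℕ} (h : PDat g L lam M a n) : HasPrinc A g L :=
  ⟨B, ‹_›, ‹_›, lam, M, a, n, h.hom, h.fin, h.flat, h.surj, h.dat, h.one_le, h.tors, h.eqn⟩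

/-- The key identity in the Picard group. -/
theorem eqn_iff {A B : Over S} [GrpObj A] {L : A.left.Modules} {M : B.left.Modules}
    (hL : PicF.IsInvertible L) (hM : PicF.IsInvertible M) (lam : A ⟶ B) (a : 𝟙_ (Over S) ⟶ A) :
    Nonempty (CohB1.tensorMod ((Scheme.Modules.pullback lam.left).obj M)
        ((Scheme.Modules.pullback A.hom).obj ((Scheme.Modules.pullback a.left).obj L)) ≅
          (Scheme.Modules.pullback (tr a).left).obj L) ↔
      PicGrp.pull lam.left (PicGrp.mk M hM) * PicGrp.pull A.hom (PicGrp.pull a.left (PicGrp.mk L hL)) =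
        PicGrp.pull (tr a).left (PicGrp.mk L hL) := by
  rw [PicGrp.pull_mk _ hL, PicGrp.pull_mk _ hL, PicGrp.pull_mk, PicGrp.pull_mk, PicGrp.mk_mul_mk, PicGrp.mk_eq_iff]

/-- Translations and homomorphisms. -/
theorem tr_hom {A A' : Over S} [GrpObj A] [GrpObj A'] (e : A' ⟶ A) [IsMonHom e] (a : 𝟙_ (Over S) ⟶ A') :
    tr a ≫ e = e ≫ tr (a ≫ e) := by
  simp only [tr]
  rw [MonObj.mul_comp, MonObj.comp_mul, Category.id_comp, Category.comp_id, Category.assoc]
  congr 1
  rw [← Category.assoc e, comp_toUnit]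

/-- **Transport along an isomorphism of groups.** -/
theorem hasPrinc_of_iso {A A' : Over S} [GrpObj A] [GrpObj A'] {g : ℕ} (e : A' ≅ A) [IsMonHom e.hom]
    {L : A.left.Modules} {L' : A'.left.Modules} (hL : PicF.IsInvertible L)
    (i : Nonempty (L' ≅ (Scheme.Modules.pullback e.hom.left).obj L)) (h : HasPrinc A g L) : HasPrinc A' g L' := by
  obtain ⟨B, _, _, lam, M, a, n, h1, h2, h3, h4, h5, h6, h7, h8⟩ := h
  have hL' : PicF.IsInvertible L' := isInvertible_of_iso i.some.symm (isInvertible_pullback _ hL)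
  have e1 : IsMonHom e.inv := inferInstance
  have ei : IsIso e.hom.left := inferInstanceAs (IsIso ((Over.forget S).mapIso e).hom)
  have hl : (e.hom ≫ lam).left = e.hom.left ≫ lam.left := rfl
  refine ⟨B, _, ‹_›, e.hom ≫ lam, M, a ≫ e.inv, n, inferInstance, ?_, ?_, ?_, h5, h6, ?_, ?_⟩
  · rw [hl]; infer_instance
  · rw [hl]; infer_instance
  · rw [hl]; infer_instance
  · rw [← MonObj.pow_comp, h7, MonObj.one_comp]
  · rw [eqn_iff hL h5.inv] at h8
    rw [eqn_iff hL' h5.inv]
    have hc : PicGrp.mk L' hL' = PicGrp.pull e.hom.left (PicGrp.mk L hL) := by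
      rw [PicGrp.pull_mk]
      exact PicGrp.mk_congr i.some
    have q1 : (a ≫ e.inv).left ≫ e.hom.left = a.left := by
      rw [← Over.comp_left, Category.assoc, e.inv_hom_id, Category.comp_id]
    have q2 : (tr (a ≫ e.inv)).left ≫ e.hom.left = e.hom.left ≫ (tr a).left := by
      rw [← Over.comp_left, ← Over.comp_left, tr_hom, Category.assoc, e.inv_hom_id, Category.comp_id]
    have z1 : PicGrp.pull (a ≫ e.inv).left (PicGrp.pull e.hom.left (PicGrp.mk L hL)) =
        PicGrp.pull a.left (PicGrp.mk L hL) := by rw [← PicGrp.pull_comp, q1]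
    have z2 : PicGrp.pull (tr (a ≫ e.inv)).left (PicGrp.pull e.hom.left (PicGrp.mk L hL)) =
        PicGrp.pull e.hom.left (PicGrp.pull (tr a).left (PicGrp.mk L hL)) := by
      rw [← PicGrp.pull_comp, q2, PicGrp.pull_comp]
    have z3 : PicGrp.pull (e.hom ≫ lam).left (PicGrp.mk M h5.inv) =
        PicGrp.pull e.hom.left (PicGrp.pull lam.left (PicGrp.mk M h5.inv)) := PicGrp.pull_comp _ _ _
    have z4 : ∀ c, PicGrp.pull A'.hom c = PicGrp.pull e.hom.left (PicGrp.pull A.hom c) := fun c => by
      rw [← PicGrp.pull_comp, Over.w]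
    rw [hc, z1, z2, z3, z4, ← map_mul, h8]

section Tower

open Groth.Agent.Sga3B Groth.Agent.Sga3B.RedIso

variable {S' S'' : Scheme.{u}} {q : S'' ⟶ S'} {p : S' ⟶ S} {r : S'' ⟶ S} (A : Over S) [GrpObj A] {g : ℕ}
  {L : A.left.Modules} (hL : PicF.IsInvertible L)

include hL in
/-- Towers of base changes. -/
theorem hasPrinc_tower (h : q ≫ p = r) :
    HasPrinc (Red.bc r A) g ((Scheme.Modules.pullback (pullback.fst A.hom r)).obj L) ↔
      HasPrinc (Red.bc q (Red.bc p A)) g ((Scheme.Modules.pullback (pullback.fst (Red.bc p A).hom q)).obj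
        ((Scheme.Modules.pullback (pullback.fst A.hom p)).obj L)) := by
  subst h
  let e := und (BcIso.bcCompIso q p A)
  have he := DsBc.bcComp_fst q p A
  have h1 : IsMonHom e.hom := inferInstance
  have h2 : IsMonHom e.symm.hom := inferInstanceAs (IsMonHom e.inv)
  constructor
  · refine hasPrinc_of_iso e.symm (isInvertible_pullback _ hL) ⟨?_⟩
    have he' : e.inv.left ≫ pullback.fst A.hom (q ≫ p) =
        pullback.fst (Red.bc p A).hom q ≫ pullback.fst A.hom p := by
      rw [← he, ← Category.assoc, ← Over.comp_left, e.inv_hom_id]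
      exact Category.id_comp _
    exact (Scheme.Modules.pullbackComp _ _).app L ≪≫ (Scheme.Modules.pullbackCongr he'.symm).app L ≪≫
      ((Scheme.Modules.pullbackComp _ _).app L).symm
  · refine hasPrinc_of_iso e (isInvertible_pullback _ (isInvertible_pullback _ hL)) ⟨?_⟩
    exact (Scheme.Modules.pullbackCongr he.symm).app L ≪≫ ((Scheme.Modules.pullbackComp _ _).app L).symm ≪≫
      (Scheme.Modules.pullback e.hom.left).mapIso ((Scheme.Modules.pullbackComp _ _).app L).symm

end Tower

end K493.HasFin
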