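import Groth.Agent.AbSch.K493.DatIso

/-!
# Models of groups over a smaller base
-/

set_option autoImplicit false
universe u

open CategoryTheory MonoidalCategory CartesianMonoidalCategory MonObj GrpObj AlgebraicGeometry Limits Opposite
open Groth.Agent Groth.Agent.Grpsch Groth.Agent.Fdesc.LocGen K258.KeyDat

namespace K493.HasFin

/-- `A` is a model over `S` of the `T`-group `A'`. -/
structure GM {S T : Scheme.{u}} (q : T ⟶ S) (A' : Over T) (A : Over S) [GrpObj A'] [GrpObj A] where
  e : A' ≅ Red.bc q A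
  mon : IsMonHom e.hom

namespace GM

variable {S T : Scheme.{u}} {q : T ⟶ S} {A' : Over T} {A : Over S} [GrpObj A'] [GrpObj A] (G : GM q A' A)

/-- The projection to the model. -/
noncomputable def pj : A'.left ⟶ A.left := G.e.hom.left ≫ pullback.fst A.hom q

theorem isPullback : IsPullback G.pj A'.hom A.hom q := by
  have h := IsPullback.of_hasPullback A.hom q
  have ei : IsIso G.e.hom.left := inferInstanceAs (IsIso ((Over.forget T).mapIso G.e).hom)
  refine IsPullback.of_iso h (asIso G.e.hom.left).symm (Iso.refl _) (Iso.refl _) (Iso.refl _) ?_ ?_ ?_ ?_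
  · simp [pj]
  · have := Over.w G.e.hom
    simp only [Iso.refl_hom, Category.comp_id, Iso.symm_hom, asIso_inv]
    rw [IsIso.eq_inv_comp]
    exact this
  · simp
  · simp

theorem unit_pj : (η[A'] : 𝟙_ (Over T) ⟶ A').left ≫ G.pj = q ≫ (η[A] : 𝟙_ (Over S) ⟶ A).left := by
  have := G.mon
  rw [pj, ← Category.assoc, ← Over.comp_left, IsMonHom.one_hom]
  exact K258.AbBC.unit_pr q A

theorem zpow_pj (n : ℤ) : (𝟙 A' ^ n).left ≫ G.pj = G.pj ≫ (𝟙 A ^ n).left := by
  have := G.mon
  have h1 : (𝟙 A' ^ n) ≫ G.e.hom = G.e.hom ≫ (𝟙 (Red.bc q A)) ^ n := by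
    rw [GrpObj.zpow_comp, GrpObj.comp_zpow, Category.id_comp, Category.comp_id]
  rw [pj, ← Category.assoc, ← Over.comp_left, h1, Over.comp_left, Category.assoc, K258.AbBC.zpow_pr, Category.assoc]

theorem tr_pj (a : 𝟙_ (Over S) ⟶ A) (a' : 𝟙_ (Over T) ⟶ A') (h : a'.left ≫ G.pj = q ≫ a.left) :
    (tr a').left ≫ G.pj = G.pj ≫ (tr a).left := by
  have := G.mon
  have h1 : (Over.pullback q).map (tr a) = tr (a' ≫ G.e.hom) := by
    have h2 : (Over.pullback q).map (toUnit A ≫ a) = toUnit (Red.bc q A) ≫ a' ≫ G.e.hom := by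
      ext1
      apply pullback.hom_ext
      · have e1 : ((Over.pullback q).map (toUnit A ≫ a)).left ≫ pullback.fst A.hom q =
            pullback.fst A.hom q ≫ (toUnit A ≫ a).left := pullback.lift_fst _ _ _
        have e2 : (toUnit A ≫ a).left = A.hom ≫ a.left := by
          have : (toUnit A).left = A.hom := by
            have := Over.w (toUnit A)
            exact (Category.comp_id _).symm.trans this
          rw [Over.comp_left, this]
        have e3 : (toUnit (Red.bc q A)).left = (Red.bc q A).hom := by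
          have := Over.w (toUnit (Red.bc q A))
          exact (Category.comp_id _).symm.trans this
        have e4 : a'.left ≫ G.e.hom.left ≫ pullback.fst A.hom q = q ≫ a.left := h
        have e5 : (toUnit (Red.bc q A) ≫ a' ≫ G.e.hom).left ≫ pullback.fst A.hom q =
            (Red.bc q A).hom ≫ q ≫ a.left := by
          rw [Over.comp_left, Over.comp_left, e3, Category.assoc, Category.assoc, e4]
        refine e1.trans (Eq.trans ?_ e5.symm)
        rw [e2, ← Category.assoc, pullback.condition, Category.assoc]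
        rfl
      · exact (Over.w ((Over.pullback q).map (toUnit A ≫ a))).trans (Over.w (toUnit (Red.bc q A) ≫ a' ≫ G.e.hom)).symm
    have h3 : (Over.pullback q).map (tr a) =
        (Over.pullback q).map (𝟙 A) * (Over.pullback q).map (toUnit A ≫ a) :=
      Functor.map_mul (Over.pullback q) _ _
    rw [h3, h2, CategoryTheory.Functor.map_id]
  have h4 : ((Over.pullback q).map (tr a)).left ≫ pullback.fst A.hom q =
      pullback.fst A.hom q ≫ (tr a).left := pullback.lift_fst _ _ _
  rw [pj, ← Category.assoc, ← Over.comp_left, tr_hom, Over.comp_left, ← h1, Category.assoc, Category.assoc, h4]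

section Rebase

open Groth.Agent.Sga3B Groth.Agent.Sga3B.RedIso

variable {S₁ : Scheme.{u}} {q₁ : T ⟶ S₁} {p : S₁ ⟶ S}

/-- The model over an intermediate base. -/
noncomputable def rebase (h : q₁ ≫ p = q) : GM q₁ A' (Red.bc p A) where
  e := G.e ≪≫ und (BcIso.bcCongrIso h.symm A) ≪≫ und (BcIso.bcCompIso q₁ p A)
  mon := by
    have := G.mon
    have h1 : IsMonHom (und (BcIso.bcCongrIso h.symm A)).hom := inferInstance
    have h2 : IsMonHom (und (BcIso.bcCompIso q₁ p A)).hom := inferInstance
    exact inferInstanceAs (IsMonHom (G.e.hom ≫ (und (BcIso.bcCongrIso h.symm A)).hom ≫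
      (und (BcIso.bcCompIso q₁ p A)).hom))

theorem rebase_fst (h : q₁ ≫ p = q) : (G.rebase h).pj ≫ pullback.fst A.hom p = G.pj := by
  have h1 := DsBc.bcComp_fst q₁ p A
  have h2 := DsBc.bcCongr_fst h.symm A
  have h3 : (G.rebase h).pj = G.e.hom.left ≫ (und (BcIso.bcCongrIso h.symm A)).hom.left ≫
      (und (BcIso.bcCompIso q₁ p A)).hom.left ≫ pullback.fst (Red.bc p A).hom q₁ := by
    rw [pj]
    simp [rebase]
  rw [h3, Category.assoc, Category.assoc, Category.assoc, h1, h2, pj]

theorem rebase_snd (h : q₁ ≫ p = q) : (G.rebase h).pj ≫ pullback.snd A.hom p = A'.hom ≫ q₁ :=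
  (G.rebase h).isPullback.w

end Rebase

end GM

end K493.HasFin
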