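import Groth.Agent.AbSch.K493.DatDesc
import Groth.Agent.Lefpen.H629.FgDescent

/-!
# From a model of the quotient to a finite extension
-/

set_option autoImplicit false
universe u

open CategoryTheory MonoidalCategory CartesianMonoidalCategory MonObj GrpObj AlgebraicGeometry Limits Opposite
open Groth.Agent Groth.Agent.Grpsch Groth.Agent.Fdesc.LocGen K258.KeyDat

namespace K493.HasFin

section pts

variable {S S₁ T : Scheme.{u}} {q : T ⟶ S} {A' : Over T} {A : Over S} [GrpObj A'] [GrpObj A] (G : GM q A' A)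
  {q₁ : T ⟶ S₁} {p : S₁ ⟶ S}

/-- The base change of a section. -/
noncomputable def bcPt (p : S₁ ⟶ S) (x : S₁ ⟶ A.left) (hx : x ≫ A.hom = p) : 𝟙_ (Over S₁) ⟶ Red.bc p A :=
  Over.homMk (pullback.lift x (𝟙 S₁) (hx.trans (Category.id_comp p).symm)) (pullback.lift_snd _ _ _)

theorem bcPt_fst (x : S₁ ⟶ A.left) (hx : x ≫ A.hom = p) : (bcPt p x hx).left ≫ pullback.fst A.hom p = x :=
  pullback.lift_fst _ _ _

theorem bcPt_snd (x : S₁ ⟶ A.left) (hx : x ≫ A.hom = p) : (bcPt p x hx).left ≫ pullback.snd A.hom p = 𝟙 S₁ :=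
  pullback.lift_snd _ _ _

/-- Compatibility of points with the intermediate model. -/
theorem pt_rebase (h : q₁ ≫ p = q) (x : S₁ ⟶ A.left) (hx : x ≫ A.hom = p) (a' : 𝟙_ (Over T) ⟶ A')
    (ha : a'.left ≫ G.pj = q₁ ≫ x) : a'.left ≫ (G.rebase h).pj = q₁ ≫ (bcPt p x hx).left := by
  apply pullback.hom_ext
  · rw [Category.assoc, G.rebase_fst h, Category.assoc]
    exact ha.trans (congrArg (fun z => q₁ ≫ z) (bcPt_fst x hx)).symm
  · rw [Category.assoc, G.rebase_snd h, Category.assoc]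
    refine Eq.trans ?_ (congrArg (fun z => q₁ ≫ z) (bcPt_snd x hx)).symm
    have h1 : a'.left ≫ A'.hom = 𝟙 T := Over.w a'
    rw [← Category.assoc, h1, Category.comp_id]
    exact Category.id_comp _

end pts

section homs

variable {S S₁ T : Scheme.{u}} {q : T ⟶ S} {A' B' : Over T} {A B : Over S} [GrpObj A'] [GrpObj A] [GrpObj B']
  [GrpObj B] (GA : GM q A' A) (GB : GM q B' B) {q₁ : T ⟶ S₁} {p : S₁ ⟶ S}

theorem hom_rebase (h : q₁ ≫ p = q) {lam : A ⟶ B} {lam' : A' ⟶ B'} (hlam : lam'.left ≫ GB.pj = GA.pj ≫ lam.left) :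
    lam'.left ≫ (GB.rebase h).pj = (GA.rebase h).pj ≫ ((Over.pullback p).map lam).left := by
  have e1 : ((Over.pullback p).map lam).left ≫ pullback.fst B.hom p = pullback.fst A.hom p ≫ lam.left :=
    pullback.lift_fst _ _ _
  have e2 : ((Over.pullback p).map lam).left ≫ pullback.snd B.hom p = pullback.snd A.hom p :=
    Over.w ((Over.pullback p).map lam)
  apply pullback.hom_ext
  · rw [Category.assoc, GB.rebase_fst h, Category.assoc]
    refine Eq.trans ?_ (congrArg (fun z => (GA.rebase h).pj ≫ z) e1).symm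
    rw [hlam, ← Category.assoc, GA.rebase_fst h]
  · rw [Category.assoc, GB.rebase_snd h, Category.assoc]
    refine Eq.trans ?_ (congrArg (fun z => (GA.rebase h).pj ≫ z) e2).symm
    rw [GA.rebase_snd h, ← Category.assoc, Over.w]

end homs

variable {K Ω : Type u} [Field K] [Field Ω] [Algebra K Ω]

theorem finite_of_fg [Algebra.IsAlgebraic K Ω] (K₀ : IntermediateField K Ω) (h : K₀.FG) : Module.Finite K K₀ := by
  obtain ⟨s, rfl⟩ := h
  exact IntermediateField.finiteDimensional_adjoin (fun x _ => Algebra.IsIntegral.isIntegral x)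

theorem sp_comp (K₁ Ω : Type u) [Field K₁] [Field Ω] [Algebra K K₁] [Algebra K₁ Ω] [Algebra K Ω]
    [IsScalarTower K K₁ Ω] : sp K₁ Ω ≫ sp K K₁ = sp K Ω := by
  rw [sp, sp, sp, ← Spec.map_comp, ← CommRingCat.ofHom_comp, ← IsScalarTower.algebraMap_eq]

variable {A B : Over (Spec (CommRingCat.of K))} [GrpObj A] [GrpObj B] {A' B' : Over (Spec (CommRingCat.of Ω))}
  [GrpObj A'] [GrpObj B'] (GA : GM (sp K Ω) A' A) (GB : GM (sp K Ω) B' B) {g : ℕ}

/-- The conclusion. -/
def Goal (K : Type u) [Field K] (A : Over (Spec (CommRingCat.of K))) [GrpObj A] (g : ℕ) (L : A.left.Modules) : Prop :=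
  ∃ (K' : Type u) (_ : Field K') (_ : Algebra K K'), Module.Finite K K' ∧
      HasPrinc (Red.bc (sp K K') A) g ((Scheme.Modules.pullback (pullback.fst A.hom (sp K K'))).obj L)

/-- If the quotient and the section have models, the reduction exists over a finite extension. -/
theorem goal_of_model [Algebra.IsAlgebraic K Ω] [IsCommMonObj B] (hA : AgPol.IsAbSch A g) (hB : AgPol.IsAbSch B g)
    {lam : A ⟶ B} [IsMonHom lam]
    [IsFinite lam.left] [Flat lam.left] [Surjective lam.left] {lam' : A' ⟶ B'}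
    (hlam : lam'.left ≫ GB.pj = GA.pj ≫ lam.left) {L : A.left.Modules} (hL : PicF.IsInvertible L)
    {L' : A'.left.Modules} (iL : Nonempty (L' ≅ (Scheme.Modules.pullback GA.pj).obj L))
    {M' : B'.left.Modules} {a : 𝟙_ (Over (Spec (CommRingCat.of K))) ⟶ A}
    {a' : 𝟙_ (Over (Spec (CommRingCat.of Ω))) ⟶ A'}
    (ha : a'.left ≫ GA.pj = sp K Ω ≫ a.left) {n : ℕ} (h : PDat g L' lam' M' a' n) : Goal K A g L := by
  have hBp := hB.proper
  obtain ⟨K₀, hK₀, hh⟩ := Lefpen.H629.FgDescent.exists_fg B.hom GB.isPullback M' h.dat.inv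
  have hfin := finite_of_fg K₀ hK₀
  have hw : sp K₀ Ω ≫ sp K K₀ = sp K Ω := sp_comp K₀ Ω
  obtain ⟨M₁, hM₁, ⟨iM⟩⟩ := hh K₀ le_rfl (IsPullback.of_hasPullback B.hom (sp K K₀)) (GB.rebase hw).pj
    (GB.rebase_fst hw) (GB.rebase_snd hw)
  refine ⟨K₀, inferInstance, inferInstance, hfin, ?_⟩
  let F := Over.pullback (sp K K₀)
  have hpb := Groth.Agent.Grpsch.AbBC.isPullback_pullback_map (sp K K₀) lam
  have f1 : IsFinite (F.map lam).left := MorphismProperty.of_isPullback (P := @IsFinite) hpb.flip ‹_›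
  have f2 : Flat (F.map lam).left := MorphismProperty.of_isPullback (P := @Flat) hpb.flip ‹_›
  have f3 : Surjective (F.map lam).left := MorphismProperty.of_isPullback (P := @Surjective) hpb.flip ‹_›
  have f4 : IsMonHom (F.map lam) := inferInstance
  have hx : (sp K K₀ ≫ a.left) ≫ A.hom = sp K K₀ := by
    rw [Category.assoc]
    have h1 : a.left ≫ A.hom = 𝟙 _ := Over.w a
    rw [h1]
    exact Category.comp_id _
  have key := PDat.descend (GA.rebase hw) (GB.rebase hw) (K258.AbBC.isAbSch (sp K K₀) A hA)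
    (K258.AbBC.isAbSch (sp K K₀) B hB) (lam := F.map lam) (lam' := lam') (hom_rebase GA GB hw hlam)
    (isInvertible_pullback (pullback.fst A.hom (sp K K₀)) hL) (L' := L') ?_ hM₁ (M' := M') ⟨iM.symm⟩
    (a := bcPt (sp K K₀) (sp K K₀ ≫ a.left) hx) (a' := a')
    (pt_rebase GA hw _ hx a' (by rw [ha, ← hw, Category.assoc])) h
  · exact key.hasPrinc
  · obtain ⟨i⟩ := iL
    exact ⟨i ≪≫ (Scheme.Modules.pullbackCongr (GA.rebase_fst hw).symm).app L ≪≫
      ((Scheme.Modules.pullbackComp _ _).app L).symm⟩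

end K493.HasFin
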