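import Groth.Agent.AbSch.K493.ModDesc
import Groth.Agent.AgPol.K515.QuotAb
import Groth.Agent.CanPar.K204.FlatLift
import Groth.Agent.S0084
import Groth.Agent.Sga3C.SubGrp

/-!
# From a model of the kernel to a model of the quotient
-/

set_option autoImplicit false
universe u

open CategoryTheory MonoidalCategory CartesianMonoidalCategory MonObj GrpObj AlgebraicGeometry Limits Opposite
open Groth.Agent Groth.Agent.Grpsch Groth.Agent.Fdesc.LocGen K258.KeyDat

namespace K493.HasFin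

/-- Base change of kernels. -/
theorem isKernel_map {S S' : Scheme.{u}} (g : S' ⟶ S) {N G Q : Over S} [GrpObj Q] {i : N ⟶ G}
    {q : G ⟶ Q} (h : AlgGrp.IsKernel i q) :
    AlgGrp.IsKernel ((Over.pullback g).map i)
      ((Over.pullback g).map q : Red.bc g G ⟶ Red.bc g Q) := by
  refine IsPullback.of_iso (h.map (Over.pullback g)) (Iso.refl _) (Iso.refl _)
    (Functor.Monoidal.εIso (Over.pullback g)).symm (Iso.refl _) ?_ ?_ ?_ ?_
  · simp
  · exact toUnit_unique _ _
  · simp
  · rw [Iso.symm_hom, Iso.refl_hom, Category.comp_id, Iso.eq_inv_comp]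
    rfl

/-- Kernels are detected on points. -/
theorem isKernel_of_points {S : Scheme.{u}} {N G Q : Over S} [GrpObj Q] {i : N ⟶ G} {q : G ⟶ Q} [Mono i]
    (h0 : i ≫ q = 1) (h : ∀ (T : Over S) (x : T ⟶ G), x ≫ q = 1 → ∃ y : T ⟶ N, y ≫ i = x) :
    AlgGrp.IsKernel i q := by
  have w : i ≫ q = toUnit N ≫ η[Q] := by rw [h0, Hom.one_def]
  refine ⟨⟨w⟩, ⟨PullbackCone.IsLimit.mk _
    (fun s => (h s.pt s.fst (by rw [s.condition, Hom.one_def, toUnit_unique s.snd (toUnit _)])).choose)
    (fun s => (h s.pt s.fst (by rw [s.condition, Hom.one_def, toUnit_unique s.snd (toUnit _)])).choose_spec)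
    (fun s => toUnit_unique _ _) ?_⟩⟩
  intro s m hm _
  rw [← cancel_mono i, hm]
  exact (h s.pt s.fst (by rw [s.condition, Hom.one_def, toUnit_unique s.snd (toUnit _)])).choose_spec.symm

/-- Subgroups from points. -/
theorem exists_grpObj {S : Scheme.{u}} {H G : Over S} [GrpObj G] (i : H ⟶ G) [Mono i] (P : ∀ T : Over S, Subgroup (T ⟶ G))
    (hP : ∀ (T : Over S) (g : T ⟶ G), g ∈ P T ↔ ∃ y : T ⟶ H, y ≫ i = g) : ∃ _ : GrpObj H, IsMonHom i := by
  apply Groth.Agent.Sga3C.SubGrp.exists_grpObj_of_mono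
  · obtain ⟨z, hz⟩ := (hP _ _).mp (mul_mem ((hP (H ⊗ H) (fst H H ≫ i)).mpr ⟨_, rfl⟩)
      ((hP (H ⊗ H) (snd H H ≫ i)).mpr ⟨_, rfl⟩))
    refine ⟨z, hz.trans ?_⟩
    rw [Hom.mul_def]
    congr 1
  · obtain ⟨z, hz⟩ := (hP _ _).mp (one_mem (P (𝟙_ (Over S))))
    refine ⟨z, hz.trans ?_⟩
    rw [Hom.one_def, toUnit_unique (toUnit _) (𝟙 _), Category.id_comp]
  · obtain ⟨z, hz⟩ := (hP _ _).mp (inv_mem ((hP H i).mpr ⟨𝟙 H, Category.id_comp _⟩))
    exact ⟨z, hz.trans (Hom.inv_def i)⟩

variable {K Ω : Type u} [Field K] [Field Ω] [Algebra K Ω]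
  {A : Over (Spec (CommRingCat.of K))} [GrpObj A] {A' B' : Over (Spec (CommRingCat.of Ω))}
  [GrpObj A'] [GrpObj B'] (GA : GM (sp K Ω) A' A) {g : ℕ}

/-- The point of `A'` attached to a point of `A`. -/
noncomputable def up {T : Over (Spec (CommRingCat.of K))} (x : T ⟶ A) : (Over.pullback (sp K Ω)).obj T ⟶ A' :=
  (Over.pullback (sp K Ω)).map x ≫ GA.e.inv

theorem up_pj {T : Over (Spec (CommRingCat.of K))} (x : T ⟶ A) :
    (up GA x).left ≫ GA.pj = pullback.fst T.hom (sp K Ω) ≫ x.left := by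
  have h1 : GA.e.inv.left ≫ GA.e.hom.left = 𝟙 _ := by
    rw [← Over.comp_left, GA.e.inv_hom_id]
    rfl
  have e1 : ((Over.pullback (sp K Ω)).map x).left ≫ pullback.fst A.hom (sp K Ω) = pullback.fst T.hom (sp K Ω) ≫ x.left :=
    pullback.lift_fst _ _ _
  rw [up, GM.pj, Over.comp_left, Category.assoc, ← Category.assoc GA.e.inv.left, h1]
  refine Eq.trans ?_ e1
  congr 1

theorem up_mul {T : Over (Spec (CommRingCat.of K))} (x y : T ⟶ A) : up GA (x * y) = up GA x * up GA y := by
  have := GA.mon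
  have h1 : (Over.pullback (sp K Ω)).map (x * y) = (Over.pullback (sp K Ω)).map x * (Over.pullback (sp K Ω)).map y :=
    Functor.map_mul _ _ _
  rw [up, up, up, h1, MonObj.mul_comp]

theorem up_one {T : Over (Spec (CommRingCat.of K))} : up GA (1 : T ⟶ A) = 1 := by
  have := GA.mon
  have h1 : (Over.pullback (sp K Ω)).map (1 : T ⟶ A) = 1 := Functor.map_one _
  rw [up, h1, MonObj.one_comp]

theorem up_inv {T : Over (Spec (CommRingCat.of K))} (x : T ⟶ A) : up GA x⁻¹ = (up GA x)⁻¹ := by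
  rw [eq_inv_iff_mul_eq_one, ← up_mul, inv_mul_cancel, up_one]

/-- `h : H ⟶ A` is a model of the kernel of `lam'`. -/
def KerMdl {H : Over (Spec (CommRingCat.of K))} (h : H ⟶ A) (lam' : A' ⟶ B') : Prop :=
  ∀ (T : Over (Spec (CommRingCat.of Ω))) (x : T ⟶ A'), x ≫ lam' = 1 ↔ ∃ y : T.left ⟶ H.left, y ≫ h.left = x.left ≫ GA.pj

variable {GA} {H : Over (Spec (CommRingCat.of K))} {h : H ⟶ A} {lam' : A' ⟶ B'}

theorem KerMdl.iff [IsClosedImmersion h.left] (hk : KerMdl GA h lam') {T : Over (Spec (CommRingCat.of K))} (x : T ⟶ A) :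
    up GA x ≫ lam' = 1 ↔ ∃ y : T ⟶ H, y ≫ h = x := by
  rw [hk]
  constructor
  · rintro ⟨y, hy⟩
    rw [up_pj] at hy
    obtain ⟨p, hp⟩ := K204.FlatLift.exists_lift_of_flat h.left x.left (pullback.fst T.hom (sp K Ω)) ⟨y, hy⟩
    exact ⟨Over.homMk p (by rw [← Over.w h, ← Category.assoc, hp, Over.w x]), by ext1; exact hp⟩
  · rintro ⟨y, rfl⟩
    exact ⟨pullback.fst T.hom (sp K Ω) ≫ y.left, by rw [up_pj, Over.comp_left, Category.assoc]⟩

theorem KerMdl.exists_grpObj [IsMonHom lam'] [IsClosedImmersion h.left] (hk : KerMdl GA h lam') :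
    ∃ _ : GrpObj H, IsMonHom h := by
  have hm : Mono h := Over.mono_of_mono_left h
  refine K493.HasFin.exists_grpObj h (fun T =>
    { carrier := {x | up GA x ≫ lam' = 1}
      mul_mem' := ?_
      one_mem' := ?_
      inv_mem' := ?_ }) (fun T x => ?_)
  · intro x y hx hy
    change up GA (x * y) ≫ lam' = 1
    rw [up_mul, MonObj.mul_comp, show up GA x ≫ lam' = 1 from hx, show up GA y ≫ lam' = 1 from hy, _root_.one_mul]
  · change up GA 1 ≫ lam' = 1
    rw [up_one, MonObj.one_comp]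
  · intro x hx
    change up GA x⁻¹ ≫ lam' = 1
    rw [up_inv, GrpObj.inv_comp, show up GA x ≫ lam' = 1 from hx, inv_one]
  · exact hk.iff x

/-- The base change of a kernel model is a kernel. -/
theorem KerMdl.isKernel [IsMonHom lam'] [IsClosedImmersion h.left] (hk : KerMdl GA h lam') :
    AlgGrp.IsKernel (up GA h) lam' := by
  have hm : Mono h := Over.mono_of_mono_left h
  have hm1 : Mono ((Over.pullback (sp K Ω)).map h) := inferInstance
  have hm2 : Mono (up GA h) := mono_comp _ _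
  refine isKernel_of_points ?_ fun T x hx => ?_
  · rw [hk.iff]
    exact ⟨𝟙 _, Category.id_comp _⟩
  · obtain ⟨y, hy⟩ := (hk T x).mp hx
    have hy' : y ≫ H.hom = T.hom ≫ sp K Ω := by
      rw [← Over.w h, ← Category.assoc, hy, Category.assoc, GA.isPullback.w, ← Category.assoc, Over.w]
    let z : T ⟶ (Over.pullback (sp K Ω)).obj H := Over.homMk (pullback.lift y T.hom hy') (pullback.lift_snd _ _ _)
    have hz : z.left ≫ pullback.fst H.hom (sp K Ω) = y := pullback.lift_fst _ _ _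
    refine ⟨z, ?_⟩
    ext1
    apply GA.isPullback.hom_ext
    · rw [Over.comp_left, Category.assoc, up_pj, ← Category.assoc, ← hy]
      exact congrArg (fun w => w ≫ h.left) hz
    · rw [Over.w, Over.w]

theorem KerMdl.isFinite [IsMonHom lam'] [IsFinite lam'.left] [IsClosedImmersion h.left] (hk : KerMdl GA h lam') :
    IsFinite H.hom := by
  have h1 := IsPullback.map (Over.forget _) hk.isKernel
  have h2 : IsFinite (toUnit ((Over.pullback (sp K Ω)).obj H)).left :=
    MorphismProperty.of_isPullback (P := @IsFinite) h1 ‹_›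
  have h3 : (toUnit ((Over.pullback (sp K Ω)).obj H)).left = pullback.snd H.hom (sp K Ω) := by
    have := Over.w (toUnit ((Over.pullback (sp K Ω)).obj H))
    exact (Category.comp_id _).symm.trans this
  rw [h3] at h2
  have h6 := Groth.Agent.S0084.result.{u}
  exact MorphismProperty.of_isPullback_of_descendsAlong (P := @IsFinite)
    (Q := @Surjective ⊓ @Flat ⊓ @QuasiCompact) (IsPullback.of_hasPullback H.hom (sp K Ω)).flip
    ⟨⟨inferInstance, inferInstance⟩, inferInstance⟩ h2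

/-- A model of the kernel gives a model of the quotient. -/
theorem KerMdl.exists_quot [IsCommMonObj A] (hA : AgPol.IsAbSch A g) (L : A.left.Modules)
    (hamp : RelAmple.IsRelAmple A.hom L) [IsMonHom lam'] [IsFinite lam'.left] [Flat lam'.left]
    [Surjective lam'.left] [IsClosedImmersion h.left] (hk : KerMdl GA h lam') :
    ∃ (B : Over (Spec (CommRingCat.of K))) (_ : GrpObj B) (_ : IsCommMonObj B) (lam : A ⟶ B)
      (GB : GM (sp K Ω) B' B), IsMonHom lam ∧ IsFinite lam.left ∧ Flat lam.left ∧ Surjective lam.left ∧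
        AgPol.IsAbSch B g ∧ lam'.left ≫ GB.pj = GA.pj ≫ lam.left := by
  obtain ⟨iH, ih⟩ := hk.exists_grpObj
  have f1 := hk.isFinite
  have f2 : Flat H.hom := inferInstance
  have f3 : LocallyOfFinitePresentation H.hom := inferInstance
  obtain ⟨B, g1, g2, lam, m1, q1, q2, q3, q4, hB, hker, -, -, -⟩ := K515.QuotAb.exists_quot h hA L hamp
  have := GA.mon
  let F := Over.pullback (sp K Ω)
  have hker' : AlgGrp.IsKernel (F.map h) (F.map lam : Red.bc (sp K Ω) A ⟶ Red.bc (sp K Ω) B) := isKernel_map (sp K Ω) hker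
  have hpb := Groth.Agent.Grpsch.AbBC.isPullback_pullback_map (sp K Ω) lam
  have r1 : IsFinite (F.map lam).left := MorphismProperty.of_isPullback (P := @IsFinite) hpb.flip ‹_›
  have r2 : Flat (F.map lam).left := MorphismProperty.of_isPullback (P := @Flat) hpb.flip ‹_›
  have r3 : Surjective (F.map lam).left := MorphismProperty.of_isPullback (P := @Surjective) hpb.flip ‹_›
  have r4 : IsMonHom (F.map lam : Red.bc (sp K Ω) A ⟶ Red.bc (sp K Ω) B) := inferInstance
  have k1 : F.map h ≫ F.map lam = 1 := K404.Desc.ker_eq_one hker'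
  have k2 : up GA h ≫ lam' = 1 := K404.Desc.ker_eq_one hk.isKernel
  have m2 : IsMonHom (GA.e.hom ≫ F.map lam) := inferInstance
  have m3 : IsMonHom (GA.e.inv ≫ lam') := inferInstance
  obtain ⟨ψ, hψm, hψ⟩ := K404.Desc.exists_desc_hom (up GA h) lam' hk.isKernel (GA.e.hom ≫ F.map lam) (by
    rw [up, Category.assoc, Iso.inv_hom_id_assoc]
    exact k1)
  obtain ⟨ψ', hψm', hψ'⟩ := K404.Desc.exists_desc_hom (F.map h) (F.map lam) hker' (GA.e.inv ≫ lam') (by
    rw [← Category.assoc]
    exact k2)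
  have e1 : Epi lam' := K404.Desc.epi_of lam'
  have e2 : Epi (F.map lam) := K404.Desc.epi_of (F.map lam)
  let E : B' ≅ Red.bc (sp K Ω) B :=
    { hom := ψ
      inv := ψ'
      hom_inv_id := by
        rw [← cancel_epi lam', ← Category.assoc, hψ, Category.assoc, hψ', Iso.hom_inv_id_assoc, Category.comp_id]
      inv_hom_id := by
        rw [← cancel_epi (F.map lam), ← Category.assoc, hψ', Category.assoc, hψ, Iso.inv_hom_id_assoc,
          Category.comp_id] }
  let GB : GM (sp K Ω) B' B := ⟨E, hψm⟩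
  refine ⟨B, g1, g2, lam, GB, m1, q1, q2, q4, hB, ?_⟩
  have e3 : (F.map lam).left ≫ pullback.fst B.hom (sp K Ω) = pullback.fst A.hom (sp K Ω) ≫ lam.left :=
    pullback.lift_fst _ _ _
  change lam'.left ≫ ψ.left ≫ pullback.fst B.hom (sp K Ω) = _
  rw [← Category.assoc, ← Over.comp_left, hψ, Over.comp_left, Category.assoc, e3, GM.pj, Category.assoc]

/-- **The conclusion, given models of the kernel and of the section.** -/
theorem goal_of_kerMdl [Algebra.IsAlgebraic K Ω] [IsCommMonObj A] (hA : AgPol.IsAbSch A g)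
    {L : A.left.Modules} (hL : PicF.IsInvertible L) (hamp : RelAmple.IsRelAmple A.hom L)
    [IsClosedImmersion h.left] (hk : KerMdl GA h lam')
    {L' : A'.left.Modules} (iL : Nonempty (L' ≅ (Scheme.Modules.pullback GA.pj).obj L))
    {M' : B'.left.Modules} {a : 𝟙_ (Over (Spec (CommRingCat.of K))) ⟶ A}
    {a' : 𝟙_ (Over (Spec (CommRingCat.of Ω))) ⟶ A'}
    (ha : a'.left ≫ GA.pj = sp K Ω ≫ a.left) {n : ℕ} (hd : PDat g L' lam' M' a' n) : Goal K A g L := by
  have d1 := hd.hom
  have d2 := hd.fin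
  have d3 := hd.flat
  have d4 := hd.surj
  obtain ⟨B, g1, g2, lam, GB, m1, q1, q2, q3, hB, hlam⟩ := hk.exists_quot hA L hamp
  exact goal_of_model GA GB hA hB hlam hL iL ha hd

end K493.HasFin
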